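import Cfsg.Agent.H99.TensorU.Layer

/-!
A layer with a coefficient that is not scalar gives all transvections of the tensor product.
-/

set_option autoImplicit false
set_option linter.unusedSectionVars false

namespace Cfsg.Agent.H99.TensorU

open Matrix Tensor
open scoped Kronecker

variable {F : Type*} [Field F] [StarRing F] [Finite F] {α : Type} [Fintype α] [DecidableEq α] {b : ℕ}

local notation "Ix" => α × Fin b

/-- A pure vector. -/
def pv (x : α → F) (w : Fin b → F) : α × Fin b → F := fun p => x p.1 * w p.2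

theorem kron_vmv (x y : α → F) (w z : Fin b → F) :
    vecMulVec x (star y) ⊗ₖ vecMulVec w (star z) = vecMulVec (pv x w) (star (pv y z)) := by
  ext ⟨p₁, p₂⟩ ⟨r₁, r₂⟩
  simp only [kroneckerMap_apply, vecMulVec_apply, pv, Pi.star_apply, star_mul']
  ring

theorem sp_pv_left (x : α → F) (w : Fin b → F) (v : Ix → F) :
    sp (pv x w) v = ∑ i, star (x i) * sp w (fun k => v (i, k)) := by
  simp only [sp, dotProduct, Fintype.sum_prod_type, pv, Pi.star_apply, star_mul', Finset.mul_sum, mul_assoc]

theorem sp_layers (v : Ix → F) : sp v v = ∑ i, sp (fun k => v (i, k)) (fun k => v (i, k)) := by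
  simp only [sp, dotProduct, Fintype.sum_prod_type, Pi.star_apply]

variable {M : Subgroup (GL (α × Fin b) F)} (H : Over M)
include H

/-- All transvections centred at the vector lie in `M`. -/
def Centre (M : Subgroup (GL (α × Fin b) F)) (v : Ix → F) : Prop :=
  ∀ d : F, star d = -d → InM M (1 + d • vecMulVec v (star v))

theorem Over.centre_mulVec {v : Ix → F} (hv : Centre M v) {Y : Matrix Ix Ix F} (hY : InM M Y) :
    Centre M (Y *ᵥ v) := fun d hd => by
  have := H.conj (hv d hd) hY
  rwa [Matrix.mul_smul, Matrix.smul_mul, vmv_conj] at this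

/-- All isotropic transvections of the first factor occur. -/
theorem Over.inLay_trans {v : α → F} {d : F} (hv0 : v ≠ 0) (hv : sp v v = 0) (hd0 : d ≠ 0) (hd : star d = -d)
    (h : InLay M (d • vecMulVec v (star v))) (hα : 2 ≤ Fintype.card α) :
    ∀ (v' : α → F) (d' : F), sp v' v' = 0 → star d' = -d' → InLay M (d' • vecMulVec v' (star v')) := by
  have step : ∀ u u' : α → F, sp u u = 0 → sp u' u' = 0 → sp u' u ≠ 0 →
      InLay M (d • vecMulVec u (star u)) → InLay M (d • vecMulVec u' (star u')) := by
    intro u u' hu hu' huu hl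
    obtain ⟨k, hk, hkd, hka⟩ := exists_move hu hu' huu hd0 hd
    have h1 := H.inLay_conj hl hk hkd
    rw [Matrix.mul_smul, Matrix.smul_mul, vmv_conj, hka, vmv_smul_left, vmv_smul_right] at h1
    have hμ : d * sp u' u ≠ 0 := mul_ne_zero hd0 huu
    have := H.inLay_fixed h1 (r := ((d * sp u' u) * star (d * sp u' u))⁻¹)
      (by rw [star_inv₀, star_mul', star_star, mul_comm])
    convert this using 1
    rw [smul_smul, smul_smul, smul_smul]
    congr 1
    have := star_ne_zero.2 hμ
    field_simp
  intro v' d' hv' hd'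
  have h1 : InLay M (d • vecMulVec v' (star v')) := by
    rcases eq_or_ne v' 0 with rfl | hv'0
    · rw [zero_vecMulVec, smul_zero]
      intro w hw
      rw [zero_kronecker, add_zero]
      exact InM.one
    obtain ⟨u, huu, hvu, hv'u⟩ := exists_iso_not_perp₂ H.ns hα hv0 hv'0
    exact step u v' huu hv' hv'u (step v u hv huu (fun e => hvu (sp_zero_comm.1 e)) h)
  have := H.inLay_fixed h1 (r := d' / d) (by rw [star_div₀, hd, hd', neg_div_neg_eq])
  rwa [smul_smul, div_mul_cancel₀ _ hd0] at this

/-- The identity from two layers with a common vector. -/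
theorem Over.inLay_prod {G G' : Matrix α α F} (hG : InLay M G) (hG' : InLay M G') {τ : F} (hτ : τ ≠ 0) :
    InLay M (τ • (G * G') - star τ • (G' * G)) := by
  obtain ⟨w, hw0, hw⟩ := H.exists_iso
  obtain ⟨w', hw'w', h1, h2⟩ := partner H.ns hw0 hw
  obtain ⟨x, hx0, hxx, hxp⟩ := exists_iso_perp H.ns ![w, w'] (by rw [Fintype.card_fin]; have := H.four; omega)
  have hwx : sp w x = 0 := hxp 0
  have hw'x : sp w' x = 0 := hxp 1
  obtain ⟨x₁, hx₁, hx₁w, hxx₁⟩ : ∃ x₁, sp x₁ x₁ = 0 ∧ sp w x₁ = 0 ∧ sp x x₁ = 1 := by
    obtain ⟨z, hzz, hxz, -⟩ := partner H.ns hx0 hxx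
    set y := z - sp w' z • w - sp w z • w' with hy
    have hwy : sp w y = 0 := by
      rw [hy, sp_sub_right, sp_sub_right, sp_smul_right, sp_smul_right, hw, h1]; ring
    have hxy : sp x y = 1 := by
      rw [hy, sp_sub_right, sp_sub_right, sp_smul_right, sp_smul_right, sp_zero_comm.1 hwx, sp_zero_comm.1 hw'x, hxz]
      ring
    obtain ⟨t, ht⟩ := exists_trace H.ns (a := -(sp y y)) (by rw [star_neg, sp_star])
    refine ⟨y + t • x, ?_, ?_, ?_⟩
    · rw [sp_add_left, sp_add_right, sp_add_right, sp_smul_left, sp_smul_left, sp_smul_right, sp_smul_right, hxx,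
        hxy, ← sp_star x y, hxy, star_one]
      linear_combination ht
    · rw [sp_add_right, sp_smul_right, hwy, hwx]; ring
    · rw [sp_add_right, sp_smul_right, hxy, hxx]; ring
  set x' := τ • x₁ with hx'
  have hx'x' : sp x' x' = 0 := by rw [hx', sp_smul_left, sp_smul_right, hx₁]; ring
  have hwx' : sp w x' = 0 := by rw [hx', sp_smul_right, hx₁w, mul_zero]
  have hxx' : sp x x' = τ := by rw [hx', sp_smul_right, hxx₁, mul_one]
  have hx'x : sp x' x = star τ := by rw [← sp_star, hxx']
  have hxw : sp x w = 0 := sp_zero_comm.1 hwx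
  have hx'w : sp x' w = 0 := sp_zero_comm.1 hwx'
  have hL : ∀ (G : Matrix α α F) (x : Fin b → F), InLay M G → sp x x = 0 → sp w x = 0 →
      InM M (1 + G ⊗ₖ (vecMulVec w (star x) + vecMulVec x (star w))) := by
    intro G x hG hxx hwx
    have hxw : sp x w = 0 := sp_zero_comm.1 hwx
    have := ((hG (w + x) (by rw [sp_add_left, sp_add_right, sp_add_right, hw, hxx, hwx, hxw]; ring)).mul
      (H.lay_neg hw (hG w hw))).mul (H.lay_neg hxx (hG x hxx))
    convert this using 1
    rw [show -G = (-1 : F) • G from (neg_one_smul F G).symm]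
    simp only [vmv_add_left, vmv_add_right, kronecker_add, Matrix.mul_add, Matrix.add_mul, Matrix.one_mul,
      Matrix.mul_one, ← mul_kronecker_mul, vmv_mul, hw, hxx, hwx, hxw, zero_smul, kronecker_zero, add_zero,
      smul_kronecker, Matrix.smul_mul, Matrix.mul_smul, smul_zero, Matrix.zero_mul]
    module
  set A := G ⊗ₖ (vecMulVec w (star x) + vecMulVec x (star w)) with hA
  set B := G' ⊗ₖ (vecMulVec w (star x') + vecMulVec x' (star w)) with hB
  have hA1 := hL G x hG hxx hwx
  have hB1 := hL G' x' hG' hx'x' hwx'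
  rw [← hA] at hA1
  rw [← hB] at hB1
  have eAA : A * A = 0 := by
    rw [hA, ← mul_kronecker_mul]
    simp [Matrix.mul_add, Matrix.add_mul, vmv_mul, hw, hxx, hwx, hxw]
  have eBB : B * B = 0 := by
    rw [hB, ← mul_kronecker_mul]
    simp [Matrix.mul_add, Matrix.add_mul, vmv_mul, hw, hx'x', hwx', hx'w]
  have eAB : A * B = (τ • (G * G')) ⊗ₖ vecMulVec w (star w) := by
    rw [hA, hB, ← mul_kronecker_mul]
    simp [Matrix.mul_add, Matrix.add_mul, vmv_mul, hw, hwx', hxw, hxx', kronecker_smul, smul_kronecker]
  have eBA : B * A = (star τ • (G' * G)) ⊗ₖ vecMulVec w (star w) := by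
    rw [hA, hB, ← mul_kronecker_mul]
    simp [Matrix.mul_add, Matrix.add_mul, vmv_mul, hw, hwx, hx'w, hx'x, kronecker_smul, smul_kronecker]
  have eABA : A * B * A = 0 := by
    rw [eAB, hA, ← mul_kronecker_mul]
    simp [Matrix.mul_add, vmv_mul, hw, hwx]
  have eBAB : B * A * B = 0 := by
    rw [eBA, hB, ← mul_kronecker_mul]
    simp [Matrix.mul_add, vmv_mul, hw, hwx']
  have hc := ((hA1.mul hB1).mul (hA1.neg eAA)).mul (hB1.neg eBB)
  have e : (1 + A) * (1 + B) * (1 - A) * (1 - B) - (1 + (A * B - B * A)) =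
      -(A * A) - B * B + A * A * B - A * (B * B) - A * B * A + B * A * B + A * B * A * B := by
    noncomm_ring
  rw [eABA, eBAB, eAA, eBB] at e
  simp only [neg_zero, zero_mul, mul_zero, sub_zero, add_zero] at e
  rw [sub_eq_zero.1 e, eAB, eBA] at hc
  refine H.inLay_of hw0 hw ?_
  convert hc using 2
  ext p r
  simp only [kroneckerMap_apply, Matrix.sub_apply, sub_mul]

/-- All rank one skew coefficients occur. -/
theorem Over.inLay_all (hq : (∃ r : F, star r = r ∧ r ≠ 0 ∧ r ≠ 1) ∨ 3 ≤ Fintype.card α)
    (hα : 2 ≤ Fintype.card α) (hbad : ¬ Good M) (x : α → F) (d : F) (hd : star d = -d) :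
    InLay M (d • vecMulVec x (star x)) := by
  obtain ⟨v₀, d₀, hv₀0, hv₀, hd₀0, hd₀, hlay⟩ := H.exists_trans hq hbad
  have hall := H.inLay_trans hv₀0 hv₀ hd₀0 hd₀ hlay hα
  have hzero : InLay M (0 : Matrix α α F) := fun w hw => by
    rw [zero_kronecker, add_zero]; exact InM.one
  rcases eq_or_ne x 0 with rfl | hx0
  · rw [zero_vecMulVec, smul_zero]; exact hzero
  by_cases hxx : sp x x = 0
  · exact hall x d hxx hd
  obtain ⟨v, hv, hxv⟩ := exists_iso_not_perp H.ns hα hx0
  obtain ⟨s, hs⟩ := exists_trace H.ns (a := -(sp x x)) (by rw [star_neg, sp_star])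
  set ρ := s / sp x v with hρ
  set v' := x + ρ • v with hv'def
  have hv' : sp v' v' = 0 := by
    rw [hv'def, sp_add_left, sp_add_right, sp_add_right, sp_smul_left, sp_smul_left, sp_smul_right, sp_smul_right, hv]
    have h1 : ρ * sp x v = s := div_mul_cancel₀ _ hxv
    have h2 : star ρ * sp v x = star s := by rw [← sp_star x v, ← star_mul', h1]
    linear_combination hs + h1 + h2
  set κ := sp v v' with hκdef
  have hκ : κ = sp v x := by rw [hκdef, hv'def, sp_add_right, sp_smul_right, hv]; ring
  have hκ0 : κ ≠ 0 := fun h => hxv (sp_zero_comm.1 (hκ ▸ h))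
  have hκ' : sp v' v = star κ := by rw [hκdef, sp_star]
  have hcross : ∀ σ : F, InLay M (σ • vecMulVec v (star v') - star σ • vecMulVec v' (star v)) := by
    intro σ
    rcases eq_or_ne σ 0 with rfl | hσ
    · simpa using hzero
    have hτ : σ / (d₀ * d₀ * κ) ≠ 0 := div_ne_zero hσ (mul_ne_zero (mul_ne_zero hd₀0 hd₀0) hκ0)
    have := H.inLay_prod (hall v d₀ hv hd₀) (hall v' d₀ hv' hd₀) hτ
    rw [Matrix.smul_mul, Matrix.mul_smul, vmv_mul, Matrix.smul_mul, Matrix.mul_smul, vmv_mul, hκ', ← hκdef,
      smul_smul, smul_smul, smul_smul, smul_smul, smul_smul, smul_smul] at this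
    convert this using 1
    have := star_ne_zero.2 hκ0
    congr 1
    · congr 1
      field_simp
    · congr 1
      rw [star_div₀, star_mul', star_mul', hd₀]
      field_simp
  have hx : x = v' + (-ρ) • v := by rw [hv'def]; module
  have h1 := H.inLay_add (H.inLay_add (hall v' d hv' hd)
    (H.inLay_fixed (hall v d hv hd) (r := ρ * star ρ) (by rw [star_mul', star_star, mul_comm])))
    (hcross (-(d * ρ)))
  convert h1 using 1
  conv_lhs => rw [hx]
  simp only [vmv_add_left, vmv_add_right, vmv_smul_left, vmv_smul_right, star_neg, star_mul', hd]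
  module

theorem Over.centre_pv (hq : (∃ r : F, star r = r ∧ r ≠ 0 ∧ r ≠ 1) ∨ 3 ≤ Fintype.card α)
    (hα : 2 ≤ Fintype.card α) (hbad : ¬ Good M) (x : α → F) {w : Fin b → F} (hw : sp w w = 0) :
    Centre M (pv x w) := fun d hd => by
  have := H.inLay_all hq hα hbad x d hd w hw
  rwa [smul_kronecker, kron_vmv] at this

/-- A layer with a coefficient that is not scalar gives all transvections. -/
theorem Over.centre_all (hq : (∃ r : F, star r = r ∧ r ≠ 0 ∧ r ≠ 1) ∨ 3 ≤ Fintype.card α)
    (hα : 2 ≤ Fintype.card α) (hbad : ¬ Good M) (v : Ix → F) (hv : sp v v = 0) : Centre M v := by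
  classical
  let lay : (Ix → F) → α → Fin b → F := fun v i k => v (i, k)
  let supp : (Ix → F) → Finset α := fun v => Finset.univ.filter fun i => lay v i ≠ 0
  obtain ⟨d, hd0, hd⟩ := exists_skew H.ns
  -- the basic move
  have move : ∀ (v : Ix → F) (i j : α) (w : Fin b → F) (μ : F), sp v v = 0 → i ≠ j → sp w w = 0 →
      sp w (lay v j) ≠ 0 → ∃ v' : Ix → F, sp v' v' = 0 ∧ (Centre M v' → Centre M v) ∧
        lay v' i = lay v i + μ • w ∧ ∀ l, l ≠ i → l ≠ j → lay v' l = lay v l := by
    intro v i j w μ hv hij hw hj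
    have hd' : d ≠ 0 := hd0
    set l₀ := star ((μ / d - sp w (lay v i)) / sp w (lay v j)) with hl₀
    set x : α → F := Pi.single i 1 + l₀ • Pi.single j 1 with hx
    have hxv : d * sp (pv x w) v = μ := by
      rw [sp_pv_left, Finset.sum_eq_add i j hij
        (fun l _ hl => by simp [hx, Pi.single_eq_of_ne hl.1, Pi.single_eq_of_ne hl.2]) (by simp) (by simp)]
      simp only [hx, Pi.add_apply, Pi.smul_apply, Pi.single_eq_same, Pi.single_eq_of_ne hij,
        Pi.single_eq_of_ne hij.symm, smul_eq_mul, mul_zero, mul_one, add_zero, zero_add, star_one, one_mul, hl₀,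
        star_star]
      change d * (sp w (lay v i) + (μ / d - sp w (lay v i)) / sp w (lay v j) * sp w (lay v j)) = μ
      rw [div_mul_cancel₀ _ hj]
      field_simp
      ring
    have hT := H.centre_pv hq hα hbad x hw d hd
    set T := 1 + d • vecMulVec (pv x w) (star (pv x w)) with hTdef
    have hTv : T *ᵥ v = v + μ • pv x w := by
      rw [hTdef, add_mulVec, one_mulVec, smul_mulVec, vmv_mulVec, smul_smul, hxv]
    refine ⟨T *ᵥ v, ?_, fun hc => ?_, ?_, fun l hli hlj => ?_⟩
    · have : sp (T *ᵥ v) (T *ᵥ v) = sp v ((Tᴴ * T) *ᵥ v) := by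
        rw [sp, sp, star_mulVec, ← dotProduct_mulVec, mulVec_mulVec]
      rw [this, H.unit' hT, one_mulVec, hv]
    · have := H.centre_mulVec hc (H.inv hT)
      rwa [mulVec_mulVec, H.unit' hT, one_mulVec] at this
    · funext k
      change (T *ᵥ v) (i, k) = v (i, k) + μ * w k
      rw [hTv]
      simp [pv, hx, Pi.single_eq_of_ne hij]
    · funext k
      change (T *ᵥ v) (l, k) = v (l, k)
      rw [hTv]
      simp [pv, hx, Pi.single_eq_of_ne hli, Pi.single_eq_of_ne hlj]
  suffices h : ∀ n v, sp v v = 0 → (supp v).card = n → Centre M v from h _ v hv rfl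
  intro n
  induction n using Nat.strong_induction_on with
  | _ n ih =>
    intro v hv hn
    rcases Nat.lt_or_ge n 2 with hn1 | hn2
    · -- a single component
      rcases isEmpty_or_nonempty α with he | ⟨⟨i0⟩⟩
      · exact absurd hα (by rw [Fintype.card_eq_zero]; omega)
      obtain ⟨i, hi⟩ : ∃ i, ∀ l, l ≠ i → lay v l = 0 := by
        rcases Nat.eq_zero_or_pos n with h0 | h0
        · refine ⟨i0, fun l _ => ?_⟩
          by_contra hl
          have : l ∈ supp v := Finset.mem_filter.2 ⟨Finset.mem_univ _, hl⟩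
          rw [Finset.card_eq_zero.1 (hn.trans h0)] at this
          simp at this
        · obtain ⟨i, hi⟩ := Finset.card_eq_one.1 (show (supp v).card = 1 by omega)
          refine ⟨i, fun l hl => ?_⟩
          by_contra h
          have : l ∈ supp v := Finset.mem_filter.2 ⟨Finset.mem_univ _, h⟩
          rw [hi, Finset.mem_singleton] at this
          exact hl this
      have hiso : sp (lay v i) (lay v i) = 0 := by
        rw [sp_layers, Finset.sum_eq_single i (fun l _ hl => by
          change sp (lay v l) (lay v l) = 0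
          rw [hi l hl, sp_zero_left]) (by simp)] at hv
        exact hv
      have e : v = pv (Pi.single i 1) (lay v i) := by
        funext ⟨l, k⟩
        by_cases hl : l = i
        · subst hl; simp [pv, lay]
        · have := congrFun (hi l hl) k
          simp [pv, Pi.single_eq_of_ne hl, lay] at this ⊢
          exact this
      rw [e]
      exact H.centre_pv hq hα hbad _ hiso
    -- decreasing the support
    have hdec : ∀ v' : Ix → F, supp v' ⊂ supp v → sp v' v' = 0 → Centre M v' := fun v' hs hv' =>
      ih _ (hn ▸ Finset.card_lt_card hs) v' hv' rfl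
    have kill : ∀ v : Ix → F, (∀ v' : Ix → F, supp v' ⊂ supp v → sp v' v' = 0 → Centre M v') → ∀ i j : α, i ≠ j →
        sp v v = 0 → i ∈ supp v → j ∈ supp v → sp (lay v i) (lay v i) = 0 →
        sp (lay v i) (lay v j) ≠ 0 → Centre M v := by
      intro v hdec i j hij hv hi hj hii hwj
      obtain ⟨v', hv', hback, hi', hrest⟩ := move v i j (lay v i) (-1) hv hij hii hwj
      refine hback (hdec v' (Finset.ssubset_iff_of_subset (fun l hl => ?_) |>.2 ⟨i, hi, fun h => ?_⟩) hv')
      · by_cases hli : l = i
        · rwa [hli]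
        by_cases hlj : l = j
        · rwa [hlj]
        simp only [supp, Finset.mem_filter, hrest l hli hlj] at hl ⊢
        exact hl
      · simp [supp, hi'] at h
    have main : ∀ v : Ix → F, (∀ v' : Ix → F, supp v' ⊂ supp v → sp v' v' = 0 → Centre M v') → ∀ i j : α, i ≠ j →
        sp v v = 0 → i ∈ supp v → j ∈ supp v → sp (lay v i) (lay v i) = 0 → Centre M v := by
      intro v hdec i j hij hv hi hj hii
      by_cases hwj : sp (lay v i) (lay v j) = 0
      swap
      · exact kill v hdec i j hij hv hi hj hii hwj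
      obtain ⟨w, hww, hiw, hjw⟩ := exists_iso_not_perp₂ H.ns (by rw [Fintype.card_fin]; have := H.four; omega)
        (Finset.mem_filter.1 hi).2 (Finset.mem_filter.1 hj).2
      have hT := H.centre_pv hq hα hbad (Pi.single j 1) hww d hd
      set T := 1 + d • vecMulVec (pv (Pi.single j 1) w) (star (pv (Pi.single j 1) w)) with hTdef
      have hTv : T *ᵥ v = v + (d * sp w (lay v j)) • pv (Pi.single j 1) w := by
        rw [hTdef, add_mulVec, one_mulVec, smul_mulVec, vmv_mulVec, smul_smul, sp_pv_left,
          Finset.sum_eq_single j (fun l _ hl => by simp [Pi.single_eq_of_ne hl]) (by simp)]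
        simp [lay]
      set v' := T *ᵥ v with hv'def
      have hli : lay v' i = lay v i := by
        funext k
        change (T *ᵥ v) (i, k) = v (i, k)
        rw [← hv'def, hTv]
        simp [pv, Pi.single_eq_of_ne hij]
      have hlj : lay v' j = lay v j + (d * sp w (lay v j)) • w := by
        funext k
        change v' (j, k) = v (j, k) + (d * sp w (lay v j)) * w k
        rw [hTv]
        simp [pv]
      have hne : sp (lay v' i) (lay v' j) ≠ 0 := by
        rw [hli, hlj, sp_add_right, sp_smul_right, hwj, zero_add]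
        exact mul_ne_zero (mul_ne_zero hd0 fun h => hjw (sp_zero_comm.1 h)) hiw
      have hsupp : supp v' = supp v := by
        ext l
        simp only [supp, Finset.mem_filter, Finset.mem_univ, true_and]
        by_cases hlj' : l = j
        · subst hlj'
          exact iff_of_true (fun h => hne (by rw [h, sp_zero_right])) (Finset.mem_filter.1 hj).2
        · have : lay v' l = lay v l := by
            funext k
            change v' (l, k) = v (l, k)
            rw [hTv]
            simp [pv, Pi.single_eq_of_ne hlj']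
          rw [this]
      have hiso : sp v' v' = 0 := by
        have : sp (T *ᵥ v) (T *ᵥ v) = sp v ((Tᴴ * T) *ᵥ v) := by
          rw [sp, sp, star_mulVec, ← dotProduct_mulVec, mulVec_mulVec]
        rw [hv'def, this, H.unit' hT, one_mulVec, hv]
      have hc := kill v' (fun v'' hs => hdec v'' (hsupp ▸ hs)) i j hij hiso (hsupp ▸ hi) (hsupp ▸ hj)
        (hli.symm ▸ hii) hne
      have := H.centre_mulVec hc (H.inv hT)
      rwa [hv'def, mulVec_mulVec, H.unit' hT, one_mulVec] at this
    obtain ⟨i, hi, j, hj, hij⟩ := Finset.one_lt_card.1 (show 1 < (supp v).card by omega)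
    by_cases hii : sp (lay v i) (lay v i) = 0
    · exact main v hdec i j hij hv hi hj hii
    obtain ⟨w, hww, hiw, hjw⟩ := exists_iso_not_perp₂ H.ns (by rw [Fintype.card_fin]; have := H.four; omega)
      (Finset.mem_filter.1 hi).2 (Finset.mem_filter.1 hj).2
    obtain ⟨s, hs⟩ := exists_trace H.ns (a := -(sp (lay v i) (lay v i))) (by rw [star_neg, sp_star])
    obtain ⟨v', hv', hback, hi', hrest⟩ := move v i j w (s / sp (lay v i) w) hv hij hww
      (fun h => hjw (sp_zero_comm.1 h))
    refine hback ?_
    have hii' : sp (lay v' i) (lay v' i) = 0 := by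
      rw [hi', sp_add_left, sp_add_right, sp_add_right, sp_smul_left, sp_smul_left, sp_smul_right, sp_smul_right, hww]
      have h1 : s / sp (lay v i) w * sp (lay v i) w = s := div_mul_cancel₀ _ hiw
      have h2 : star (s / sp (lay v i) w) * sp w (lay v i) = star s := by rw [← sp_star (lay v i) w, ← star_mul', h1]
      linear_combination hs + h1 + h2
    have hsub : supp v' ⊆ supp v := fun l hl => by
      by_cases hli : l = i
      · rwa [hli]
      by_cases hlj : l = j
      · rwa [hlj]
      simp only [supp, Finset.mem_filter, hrest l hli hlj] at hl ⊢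
      exact hl
    by_cases heq : supp v' = supp v
    · exact main v' (fun v'' hs' => hdec v'' (heq ▸ hs')) i j hij hv' (heq ▸ hi) (heq ▸ hj) hii'
    · exact hdec v' (hsub.ssubset_of_ne heq) hv'

end Cfsg.Agent.H99.TensorU
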